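import Groth.Agent.Etcore.TorInv

/-!
# Sheaves of torsion invertible on `S` killed by a positive integer are killed by an integer invertible on `S`
-/

set_option autoImplicit false
universe u
open CategoryTheory CategoryTheory.Limits AlgebraicGeometry Opposite

namespace Groth.Agent.Etbc.H223.InvKill

variable {X : Scheme.{u}}

/-- Given `n > 0`, the prime factors of `n` which are not invertible on `S` can be removed. -/
theorem exists_unit_mul (S : Scheme.{u}) {F : EtCoh.Ab X} (hF : EtPBC.IsTorsionInvertibleOn S F)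
    (n : ℕ) (hn : 0 < n) : ∃ m : ℕ, IsUnit (m : Γ(S, ⊤)) ∧
      ∀ (U : X.Etale) (s : EtCoh.sect F U), n • s = 0 → m • s = 0 := by
  induction n using induction_on_primes with
  | zero => exact absurd hn (lt_irrefl _)
  | one => exact ⟨1, by rw [Nat.cast_one]; exact isUnit_one, fun U s h => h⟩
  | prime_mul p a hp ih =>
    have ha : 0 < a := Nat.pos_of_ne_zero (by rintro rfl; simp at hn)
    obtain ⟨m, hm, h⟩ := ih ha
    by_cases hu : IsUnit (p : Γ(S, ⊤))
    · refine ⟨p * m, ?_, fun U s hs => ?_⟩
      · rw [Nat.cast_mul]; exact hu.mul hm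
      · rw [mul_comm p a, mul_smul] at hs
        rw [mul_comm, mul_smul]
        exact h U _ hs
    · refine ⟨m, hm, fun U s hs => ?_⟩
      rw [mul_comm p a, mul_smul] at hs
      have h1 : m • (p • s) = 0 := h U _ hs
      rw [← mul_smul, mul_comm, mul_smul] at h1
      apply Groth.Agent.Etbase.EtSite.sect_eq_zero
      intro x
      obtain ⟨V, g, r, ⟨v, hv⟩, hr, h0⟩ := hF U (m • s) x
      refine ⟨V, g, v, hv, ?_⟩
      apply Etcore.TorInv.eq_zero_of_coprime (Etcore.TorInv.coprime_of_not_isUnit hp hu hr) _ h0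
      rw [← map_nsmul, h1, map_zero]

/-- A sheaf of torsion invertible on `S` killed by `n > 0` is killed by an integer invertible on `S`. -/
theorem exists_killedBy_unit (S : Scheme.{u}) {F : EtCoh.Ab X} (hF : EtPBC.IsTorsionInvertibleOn S F)
    (n : ℕ) (hn : 0 < n) (h : EtCoh.KilledBy n F) :
    ∃ m : ℕ, IsUnit (m : Γ(S, ⊤)) ∧ EtCoh.KilledBy m F := by
  obtain ⟨m, hm, h1⟩ := exists_unit_mul S hF n hn
  exact ⟨m, hm, fun U s => h1 U s (h U s)⟩

end Groth.Agent.Etbc.H223.InvKill
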