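import Groth.Agent.S3122
import Groth.Agent.EtpbcB.GammaRpush
import Groth.Agent.EtpbcB.GeomPointIndep
import Groth.Agent.EtpbcA.ConsExact
import Groth.Agent.EtpbcA.KilledBy
import Groth.Agent.Sga4h.DivEq
import Groth.Agent.Etbc.H223.InvKill

/-!
# Finiteness of the cohomology of constructible sheaves on algebraic schemes over separably closed fields
-/

set_option autoImplicit false
universe u
open CategoryTheory CategoryTheory.Limits AlgebraicGeometry Opposite

namespace Groth.Agent.Etbc.H223.SepFin

/-- The spectrum of a field is regular. -/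
theorem isRegular_spec (k : Type u) [Field k] (s : Spec (CommRingCat.of k)) :
    IsRegularLocalRing ((Spec (CommRingCat.of k)).presheaf.stalk s) :=
  (Groth.Agent.Sga4h.DivEq.isRegularLocalRing_stalk_iff k s).2 inferInstance

/-- The spectrum of a field has dimension at most one. -/
theorem dim_spec_le (k : Type u) [Field k] : topologicalKrullDim (Spec (CommRingCat.of k)) ≤ 1 := by
  have h : topologicalKrullDim (Spec (CommRingCat.of k)) = ringKrullDim k :=
    PrimeSpectrum.topologicalKrullDim_eq_ringKrullDim k
  rw [h, ringKrullDim_eq_zero_of_field]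
  exact zero_le_one

/-- Deligne finiteness over a field. -/
theorem isConstructible_Rpush (k : Type u) [Field k] {X Y : Scheme.{u}}
    (a : X ⟶ Spec (CommRingCat.of k)) (b : Y ⟶ Spec (CommRingCat.of k)) [LocallyOfFiniteType a]
    [QuasiCompact a] [LocallyOfFiniteType b] [QuasiCompact b] (f : X ⟶ Y) (w : f ≫ b = a)
    (F : EtCoh.Ab X) (hF : EtPBC.IsConstructible F) 
    (hord : EtPBC.IsTorsionInvertibleOn (Spec (CommRingCat.of k)) F) (q : ℕ) :
    EtPBC.IsConstructible ((EtCoh.Rpush f q).obj F) := by
  have hX : CompactSpace X := QuasiCompact.compactSpace_of_compactSpace a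
  have hN : IsLocallyNoetherian X := LocallyOfFiniteType.isLocallyNoetherian a
  have hX2 : QuasiSeparatedSpace X := inferInstance
  obtain ⟨n, hn, hk⟩ := Groth.Agent.EtpbcA.KilledBy.exists_killedBy_of_isConstructible hF
  obtain ⟨m, hm, hk⟩ := InvKill.exists_killedBy_unit _ hord n hn hk
  exact Groth.Agent.S3122.result (isRegular_spec k) (dim_spec_le k) m hm a b f w F hF hk q

/-- The cohomology of a constructible sheaf of torsion prime to the characteristic on a scheme of finite
type over a separably closed field is finite. -/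
theorem finite_H (k : Type u) [Field k] [IsSepClosed k] (X : Scheme.{u})
    (a : X ⟶ Spec (CommRingCat.of k)) [LocallyOfFiniteType a] [QuasiCompact a]
    (F : EtCoh.Ab X) (hF : EtPBC.IsConstructible F)
    (hord : EtPBC.IsTorsionInvertibleOn (Spec (CommRingCat.of k)) F) (q : ℕ) :
    Finite (EtCoh.H X F q) := by
  have hc := isConstructible_Rpush k a (𝟙 _) a (Category.comp_id a) F hF hord q
  obtain ⟨e⟩ := Groth.Agent.EtpbcB.GammaRpush.stalk_id_Rpush a F q
  have := Groth.Agent.EtpbcB.GeomPointIndep.finite_stalk_of_constructible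
    (𝟙 (Spec (CommRingCat.of k))) _ hc
  exact Finite.of_equiv _ e.toEquiv

end Groth.Agent.Etbc.H223.SepFin
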